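import Cfsg.Agent.Lib.Forms.Bridge
import Cfsg.Agent.Lib.Forms.Parity
import Cfsg.Agent.Lib.Forms.Witt
import Cfsg.Prelude.Def_GeometricClasses

/-!
Quadratic forms in characteristic two over finite fields: values on large subspaces and
transitivity of `Ω` on families of vectors with the same Gram data.
-/

set_option autoImplicit false

namespace Cfsg.Agent.Lib.Forms

open Matrix

variable {F V : Type*} [Field F] [AddCommGroup V] [Module F V]

/-- A function satisfying the matrix definition of a non-degenerate quadratic form, bundled. -/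
def bundleQuad {ι : Type} [Fintype ι] [DecidableEq ι] (Q : (ι → F) → F)
    (hQ : Cfsg.Geo.IsNondegenerateQuadraticForm Q) : QuadraticForm F (ι → F) :=
  QuadraticMap.ofPolar Q (fun c v => by rw [hQ.smul, smul_eq_mul, pow_two])
    hQ.polar_bilinear.add_left (fun c x y => by rw [hQ.polar_bilinear.smul_left, smul_eq_mul])

theorem coe_bundleQuad {ι : Type} [Fintype ι] [DecidableEq ι] (Q : (ι → F) → F)
    (hQ : Cfsg.Geo.IsNondegenerateQuadraticForm Q) : ⇑(bundleQuad Q hQ) = Q := rfl

theorem nondegenerate_bundleQuad {ι : Type} [Fintype ι] [DecidableEq ι] (Q : (ι → F) → F)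
    (hQ : Cfsg.Geo.IsNondegenerateQuadraticForm Q) :
    (QuadraticMap.polarBilin (bundleQuad Q hQ)).Nondegenerate := by
  constructor
  · intro x hx
    by_contra h
    obtain ⟨-, y, hy⟩ := hQ.nondegenerate x h
    exact hy (hx y)
  · intro y hy
    by_contra h
    obtain ⟨⟨x, hx⟩, -⟩ := hQ.nondegenerate y h
    exact hx (hy x)

theorem charP_two_of_not_odd [Fintype F] (h : ¬ Odd (Fintype.card F)) : CharP F 2 := by
  have h2 : ringChar F = 2 := FiniteField.even_card_iff_char_two.mpr
    (Nat.even_iff.mp (Nat.not_odd_iff_even.mp h))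
  exact ringChar.of_eq h2

/-- The dimension of the perp of a span of `k` vectors. -/
theorem le_finrank_perp_range [FiniteDimensional F V] {Q : QuadraticForm F V}
    (hQ : (QuadraticMap.polarBilin Q).Nondegenerate) {k : ℕ} (u : Fin k → V) :
    Module.finrank F V ≤
      Module.finrank F (perp (QuadraticMap.polarBilin Q) (Submodule.span F (Set.range u))) + k := by
  have h := (IsGoodForm.of_quadratic hQ).finrank_add_finrank_perp (Submodule.span F (Set.range u))
  have h2 : Module.finrank F (Submodule.span F (Set.range u)) ≤ k := by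
    simpa [Set.finrank] using finrank_range_le_card (R := F) u
  omega

theorem mem_perp_range {Q : QuadraticForm F V} {k : ℕ} {u : Fin k → V} {z : V} :
    z ∈ perp (QuadraticMap.polarBilin Q) (Submodule.span F (Set.range u)) ↔
      ∀ i, QuadraticMap.polar Q (u i) z = 0 := by
  rw [mem_perp_span]
  simp [Set.forall_mem_range]

/-- A vector with prescribed products with `u i`, given that they are independent. -/
theorem exists_polar_eq [FiniteDimensional F V] {Q : QuadraticForm F V}
    (hQ : (QuadraticMap.polarBilin Q).Nondegenerate) {k : ℕ} {u : Fin k → V}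
    (hu : LinearIndependent F u) (c : Fin k → F) :
    ∃ r, ∀ i, QuadraticMap.polar Q (u i) r = c i := by
  obtain ⟨φ, hφ⟩ : ∃ φ : V →ₗ[F] F, ∀ i, φ (u i) = c i := by
    let b := Module.Basis.span hu
    obtain ⟨φ, hφ⟩ := LinearMap.exists_extend (b.constr F c)
    refine ⟨φ, fun i => ?_⟩
    have h1 := LinearMap.congr_fun hφ (b i)
    rw [Module.Basis.constr_basis] at h1
    simpa [b] using h1
  obtain ⟨r, hr⟩ := (IsGoodForm.of_quadratic hQ).exists_vec φ
  refine ⟨r, fun i => ?_⟩
  rw [QuadraticMap.polar_comm]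
  simpa [hφ] using hr (u i)

variable [CharP F 2]

theorem polar_self_char_two (Q : QuadraticForm F V) (x : V) : QuadraticMap.polar Q x x = 0 := by
  rw [QuadraticMap.polar_self, two_smul, CharTwo.add_self_eq_zero]

/-- A large subspace takes every value at a non-zero vector. -/
theorem exists_value_char_two [Finite F] [FiniteDimensional F V] {Q : QuadraticForm F V}
    (hQ : (QuadraticMap.polarBilin Q).Nondegenerate) {K : Submodule F V}
    (hK : Module.finrank F V < 2 * Module.finrank F K) (hK3 : 3 ≤ Module.finrank F K) (e : F) :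
    ∃ z ∈ K, z ≠ 0 ∧ Q z = e := by
  have good := IsGoodForm.of_quadratic hQ
  obtain ⟨k₁, hk₁, hQ₁⟩ : ∃ z ∈ K, Q z ≠ 0 := by
    by_contra hne
    push Not at hne
    have hle : K ≤ perp (QuadraticMap.polarBilin Q) K := fun v hv x hx => by
      simp [QuadraticMap.polar, hne v hv, hne x hx, hne _ (K.add_mem hx hv)]
    have h1 := Submodule.finrank_mono hle
    have h2 := good.finrank_add_finrank_perp K
    omega
  have sq_root : ∀ x : F, ∃ y : F, y * y = x := fun x => by
    obtain ⟨y, hy⟩ := surjective_frobenius F 2 x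
    exact ⟨y, by rw [← hy, frobenius_def, pow_two]⟩
  by_cases he : e = 0
  · subst he
    obtain ⟨k₂, hk₂, hk₂'⟩ : ∃ z ∈ K ⊓ perp (QuadraticMap.polarBilin Q) (F ∙ k₁), z ∉ F ∙ k₁ := by
      by_contra hne
      push Not at hne
      have hk0 : k₁ ≠ 0 := fun h => hQ₁ (by rw [h, map_zero])
      have h1 := Submodule.finrank_mono (show K ⊓ perp (QuadraticMap.polarBilin Q) (F ∙ k₁) ≤ F ∙ k₁ from hne)
      rw [finrank_span_singleton hk0] at h1
      have h2 := good.finrank_add_finrank_perp (F ∙ k₁)
      rw [finrank_span_singleton hk0] at h2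
      have h3 := Submodule.finrank_sup_add_finrank_inf_eq K (perp (QuadraticMap.polarBilin Q) (F ∙ k₁))
      have h4 := Submodule.finrank_le (K ⊔ perp (QuadraticMap.polarBilin Q) (F ∙ k₁))
      omega
    obtain ⟨hk₂K, hk₂p⟩ := Submodule.mem_inf.mp hk₂
    obtain ⟨α, hα⟩ := sq_root (Q k₂)
    obtain ⟨β, hβ⟩ := sq_root (Q k₁)
    have hp : QuadraticMap.polar Q k₁ k₂ = 0 := hk₂p k₁ (Submodule.mem_span_singleton_self k₁)
    refine ⟨α • k₁ + β • k₂, K.add_mem (K.smul_mem _ hk₁) (K.smul_mem _ hk₂K), fun h => ?_, ?_⟩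
    · have hβ0 : β ≠ 0 := fun h0 => hQ₁ (by rw [← hβ, h0, mul_zero])
      apply hk₂'
      rw [Submodule.mem_span_singleton]
      refine ⟨-(β⁻¹ * α), ?_⟩
      have h' := congrArg (β⁻¹ • ·) h
      simp only [smul_add, smul_smul, smul_zero, inv_mul_cancel₀ hβ0, one_smul] at h'
      rw [neg_smul]
      exact (eq_neg_of_add_eq_zero_right h').symm
    · rw [QuadraticMap.map_add (⇑Q), QuadraticMap.map_smul, QuadraticMap.map_smul, QuadraticMap.polar_smul_left,
        QuadraticMap.polar_smul_right, hp, smul_eq_mul, smul_eq_mul, hα, hβ, smul_zero, smul_zero, add_zero,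
        mul_comm, CharTwo.add_self_eq_zero]
  · obtain ⟨s, hs⟩ := sq_root (e / Q k₁)
    refine ⟨s • k₁, K.smul_mem _ hk₁, ?_, ?_⟩
    · have hs0 : s ≠ 0 := by
        rintro rfl
        exact div_ne_zero he hQ₁ (by rw [← hs, mul_zero])
      exact smul_ne_zero hs0 fun h => hQ₁ (by rw [h, map_zero])
    · rw [QuadraticMap.map_smul, smul_eq_mul, hs, div_mul_cancel₀ _ hQ₁]

/-- `Ω` moves a family to any family with the same Gram data, when the perp is large. -/
theorem exists_omega_map {ι : Type} [Fintype ι] [DecidableEq ι] [Finite F] {Q : QuadraticForm F (ι → F)}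
    (hQ : (QuadraticMap.polarBilin Q).Nondegenerate) {k : ℕ} (hk : 2 * k < Fintype.card ι)
    (hk3 : k + 5 ≤ Fintype.card ι) {v w : Fin k → ι → F} (hv : LinearIndependent F v) (hw : LinearIndependent F w)
    (hQv : ∀ i, Q (v i) = Q (w i))
    (hgram : ∀ i j, QuadraticMap.polar Q (v i) (v j) = QuadraticMap.polar Q (w i) (w j)) :
    ∃ g ∈ Cfsg.Geo.omegaGL ⇑Q, ∀ i, (g : Matrix ι ι F) *ᵥ v i = w i := by
  obtain ⟨e, he, hev⟩ := witt_family_quad hQ v w hv hw hQv hgram
  have hex : (∃ c : F, c ≠ 0 ∧ c ≠ 1) ∨ Fintype.card ι ≠ 4 := Or.inr (by omega)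
  have hidx := index_Omega_char_two hQ hex (by omega)
  by_cases hmem : isoMk e he ∈ Cfsg.Omega F ⇑Q
  · exact ⟨_, Subgroup.mem_map_of_mem _ hmem, fun i => by rw [Subgroup.coe_subtype, isoMk_mulVec]; exact hev i⟩
  · have hd := le_finrank_perp_range hQ v
    rw [Module.finrank_fintype_fun_eq_card] at hd
    obtain ⟨u, hu, -, hu1⟩ := exists_value_char_two hQ
      (K := perp (QuadraticMap.polarBilin Q) (Submodule.span F (Set.range v)))
      (by rw [Module.finrank_fintype_fun_eq_card]; omega) (by omega) 1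
    have hu0 : Q u ≠ 0 := by rw [hu1]; exact one_ne_zero
    have hr : reflElem hu0 ∉ Cfsg.Omega F ⇑Q := fun hr => by
      have h1 : Cfsg.Omega F ⇑Q ≤ (parityHom hQ hex).ker := by
        exact Abelianization.commutator_subset_ker _
      have h2 := h1 hr
      rw [MonoidHom.mem_ker, parityHom_reflElem hQ hex hu0] at h2
      exact absurd h2 (by decide)
    have hm : isoMk e he * reflElem hu0 ∈ Cfsg.Omega F ⇑Q :=
      (Subgroup.mul_mem_iff_of_index_two hidx).mpr (by simp [hmem, hr])
    refine ⟨_, Subgroup.mem_map_of_mem _ hm, fun i => ?_⟩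
    rw [Subgroup.coe_subtype, Subgroup.coe_mul, Units.val_mul, ← mulVec_mulVec, reflElem_mulVec,
      isoMk_mulVec]
    have hi := mem_perp_range.mp hu i
    rw [QuadraticMap.polar_comm] at hi
    rw [hi, mul_zero, zero_smul, sub_zero]
    exact hev i

theorem exists_omega_map_one {ι : Type} [Fintype ι] [DecidableEq ι] [Finite F] {Q : QuadraticForm F (ι → F)}
    (hQ : (QuadraticMap.polarBilin Q).Nondegenerate) (hn : 6 ≤ Fintype.card ι) {x y : ι → F}
    (hx : x ≠ 0) (hy : y ≠ 0) (h : Q x = Q y) :
    ∃ g ∈ Cfsg.Geo.omegaGL ⇑Q, (g : Matrix ι ι F) *ᵥ x = y := by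
  obtain ⟨g, hg, hgi⟩ := exists_omega_map hQ (k := 1) (by omega) (by omega) (v := ![x]) (w := ![y])
    (linearIndependent_unique_iff.mpr (by simpa using hx)) (linearIndependent_unique_iff.mpr (by simpa using hy))
    (fun i => by fin_cases i; simpa using h) (fun i j => by fin_cases i; fin_cases j; simp [QuadraticMap.polar_self, h])
  exact ⟨g, hg, by simpa using hgi 0⟩

theorem linearIndependent_pair_of_value {Q : QuadraticForm F V} {x y : V} (hxy : x ≠ y) (h : Q x = Q y)
    (hx : Q x ≠ 0) : LinearIndependent F ![x, y] := by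
  rw [LinearIndependent.pair_iff' (fun e => hx (by rw [e, map_zero]))]
  intro a e
  apply hxy
  rw [← e, QuadraticMap.map_smul, smul_eq_mul] at h
  have : a * a = 1 := mul_right_cancel₀ hx (by rw [one_mul]; exact h.symm)
  have ha : a = 1 := by
    rcases mul_self_eq_one_iff.mp this with r | r
    · exact r
    · rwa [CharTwo.neg_eq] at r
  rw [← e, ha, one_smul]

end Cfsg.Agent.Lib.Forms
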