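/-
Stabilisers of subspaces: basic criteria and the coordinate flags of `GL_n`.
-/
import Mathlib
import Cfsg.Prelude.Def_ClassicalGeometry
import Cfsg.Agent.Lib.Forms.Bridge

set_option autoImplicit false

namespace Cfsg.Agent.Lib.Forms

open Matrix

variable {ι : Type} [Fintype ι] [DecidableEq ι] {F : Type*} [Field F]

/-- For a subspace it is enough to be mapped into itself. -/
theorem mem_stabilizing_of_mapsTo {H : Type*} [Group H] {toMat : H →* Matrix ι ι F} (S : Submodule F (ι → F))
    {g : H} (hg : ∀ v ∈ S, toMat g *ᵥ v ∈ S) : g ∈ Cfsg.stabilizing toMat (S : Set (ι → F)) := by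
  intro v
  refine ⟨hg v, fun hv => ?_⟩
  let L : S →ₗ[F] S := (Matrix.mulVecLin (toMat g)).restrict hg
  have hinj : Function.Injective L := by
    intro x y hxy
    have h1 : toMat g *ᵥ (x : ι → F) = toMat g *ᵥ (y : ι → F) := congrArg Subtype.val hxy
    have h2 := congrArg (fun z => toMat g⁻¹ *ᵥ z) h1
    simp only [mulVec_mulVec, ← map_mul, inv_mul_cancel, map_one, one_mulVec] at h2
    exact Subtype.ext h2
  obtain ⟨w, hw⟩ := LinearMap.surjective_of_injective hinj ⟨_, hv⟩
  have h1 : toMat g *ᵥ (w : ι → F) = toMat g *ᵥ v := congrArg Subtype.val hw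
  have h2 := congrArg (fun z => toMat g⁻¹ *ᵥ z) h1
  simp only [mulVec_mulVec, ← map_mul, inv_mul_cancel, map_one, one_mulVec] at h2
  show v ∈ S
  rw [← h2]
  exact w.2

theorem mem_stabilizing_submodule_iff {H : Type*} [Group H] {toMat : H →* Matrix ι ι F} (S : Submodule F (ι → F))
    {g : H} : g ∈ Cfsg.stabilizing toMat (S : Set (ι → F)) ↔ ∀ v ∈ S, toMat g *ᵥ v ∈ S :=
  ⟨fun hg v hv => (hg v).mp hv, mem_stabilizing_of_mapsTo S⟩

/-- Vectors supported on the indices satisfying `p`. -/
def supported (F : Type*) [Field F] {ι : Type} (p : ι → Prop) : Submodule F (ι → F) where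
  carrier := {v | ∀ i, ¬ p i → v i = 0}
  add_mem' ha hb i hi := by simp [ha i hi, hb i hi]
  zero_mem' _ _ := rfl
  smul_mem' c v hv i hi := by simp [hv i hi]

theorem mem_supported {p : ι → Prop} {v : ι → F} : v ∈ supported F p ↔ ∀ i, ¬ p i → v i = 0 := Iff.rfl

theorem single_mem_supported {p : ι → Prop} {j : ι} (hj : p j) (c : F) :
    Pi.single j c ∈ supported F p := by
  intro i hi
  rw [Pi.single_eq_of_ne]
  rintro rfl
  exact hi hj

/-- Stabilising a coordinate subspace means having a zero block. -/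
theorem mem_stabilizing_supported_iff {H : Type*} [Group H] {toMat : H →* Matrix ι ι F} (p : ι → Prop) {g : H} :
    g ∈ Cfsg.stabilizing toMat (supported F p : Set (ι → F)) ↔ ∀ i j, ¬ p i → p j → toMat g i j = 0 := by
  rw [mem_stabilizing_submodule_iff]
  constructor
  · intro h i j hi hj
    simpa [Matrix.mulVec_single] using h _ (single_mem_supported hj (1 : F)) i hi
  · intro h v hv i hi
    simp only [Matrix.mulVec, dotProduct]
    refine Finset.sum_eq_zero fun j _ => ?_
    by_cases hj : p j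
    · rw [h i j hi hj, zero_mul]
    · rw [hv j hj, mul_zero]

theorem setOf_eq_supported {n k : ℕ} :
    {v : Fin n → F | ∀ i : Fin n, k ≤ (i : ℕ) → v i = 0}
      = (supported F (fun i : Fin n => (i : ℕ) < k) : Set (Fin n → F)) := by
  ext v
  simp only [Set.mem_setOf_eq, SetLike.mem_coe, mem_supported, not_lt]

theorem mem_gl_stab_iff {n k : ℕ} {g : Matrix.GeneralLinearGroup (Fin n) F} :
    g ∈ Cfsg.stabilizing (Cfsg.glToMat (Fin n) F) {v : Fin n → F | ∀ i : Fin n, k ≤ (i : ℕ) → v i = 0}
      ↔ ∀ i j : Fin n, k ≤ (i : ℕ) → (j : ℕ) < k → (g : Matrix (Fin n) (Fin n) F) i j = 0 := by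
  rw [setOf_eq_supported, mem_stabilizing_supported_iff]
  simp only [not_lt, Units.coeHom_apply]

end Cfsg.Agent.Lib.Forms
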